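import Groth.Agent.GenFam.FiniteFlat
import Groth.Agent.FittLib.Sheaf
import Groth.Agent.CohDev.Coh
import Groth.Agent.Props.QProj
import Groth.Prelude.Def_PerfAux
import Mathlib.RingTheory.Finiteness.ModuleFinitePresentation

/-!
# The resolution property descends along finite locally free surjections
-/

set_option autoImplicit false
set_option linter.style.haveILetI false

universe u

open CategoryTheory CategoryTheory.Limits AlgebraicGeometry TopologicalSpace Opposite

noncomputable section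

namespace Groth.Agent.ResPropDesc

open Groth.Agent.GenFam Groth.Agent.PullStalk.Sky Groth.Agent.PullStalk.Exact
  Groth.Agent.Omega.Stalks Groth.Agent.QCoh

/-- Projective modules over a projective algebra are projective. -/
theorem projective_trans {A B : Type u} [CommRing A] [CommRing B] [Algebra A B] (M : Type u)
    [AddCommGroup M] [Module A M] [Module B M] [IsScalarTower A B M] [Module.Projective A B]
    [Module.Projective B M] : Module.Projective A M := by
  obtain ⟨t, ht⟩ := Module.projective_def.1 (inferInstance : Module.Projective A B)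
  haveI : Module.Projective A (M →₀ B) :=
    Module.Projective.of_split (Finsupp.mapRange.linearMap t)
      (Finsupp.mapRange.linearMap (Finsupp.linearCombination A (id : B → B)))
      (LinearMap.ext fun v => Finsupp.ext fun m => by
        simp only [LinearMap.comp_apply, Finsupp.mapRange.linearMap_apply, Finsupp.mapRange_apply,
          LinearMap.id_coe, id_eq]
        exact ht (v m))
  obtain ⟨s, hs⟩ := Module.projective_def.1 (inferInstance : Module.Projective B M)
  exact Module.Projective.of_split (s.restrictScalars A)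
    ((Finsupp.linearCombination B (id : M → M)).restrictScalars A) (LinearMap.ext hs)

variable {X Y : Scheme.{u}} (f : X ⟶ Y)

/-- Direct images of finite locally free modules along finite locally free morphisms. -/
theorem isFinLocFree_push [IsFinite f] [Flat f] [LocallyOfFinitePresentation f] (E : X.Modules)
    (hE : FlatMod.IsFinLocFree E) :
    FlatMod.IsFinLocFree ((Scheme.Modules.pushforward f).obj E) := by
  haveI : E.IsQuasicoherent := PerfTri.Betti.isQuasicoherent_of_isFinLocFree hE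
  let P := (Scheme.Modules.pushforward f).obj E
  haveI : P.IsQuasicoherent := QCoh.isQuasicoherent_pushforward f E
  have key : ∀ V : Y.Opens, IsAffineOpen V →
      Module.FinitePresentation Γ(Y, V) Γ(P, V) ∧ Module.Projective Γ(Y, V) Γ(P, V) := by
    intro V hV
    letI := (f.app V).hom.toAlgebra
    haveI : Module.Finite Γ(Y, V) Γ(X, f ⁻¹ᵁ V) := IsFinite.finite_app f V hV
    haveI : Module.Flat Γ(Y, V) Γ(X, f ⁻¹ᵁ V) := by
      have := HasRingHomProperty.appLE (@Flat) f inferInstance ⟨V, hV⟩ ⟨_, hV.preimage f⟩ le_rfl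
      rwa [Scheme.Hom.appLE_eq_app] at this
    haveI : Algebra.FinitePresentation Γ(Y, V) Γ(X, f ⁻¹ᵁ V) := by
      have := HasRingHomProperty.appLE (@LocallyOfFinitePresentation) f inferInstance ⟨V, hV⟩
        ⟨_, hV.preimage f⟩ le_rfl
      rwa [Scheme.Hom.appLE_eq_app] at this
    haveI : Module.FinitePresentation Γ(Y, V) Γ(X, f ⁻¹ᵁ V) :=
      .of_finite_of_finitePresentation _ _
    haveI : Module.Projective Γ(Y, V) Γ(X, f ⁻¹ᵁ V) := Module.Flat.projective_of_finitePresentation
    letI : Module Γ(Y, V) Γ(E, f ⁻¹ᵁ V) := Module.compHom Γ(E, f ⁻¹ᵁ V) (f.app V).hom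
    haveI : IsScalarTower Γ(Y, V) Γ(X, f ⁻¹ᵁ V) Γ(E, f ⁻¹ᵁ V) :=
      IsScalarTower.of_algebraMap_smul fun _ _ => rfl
    haveI := Props.QProj.finitePresentation_sections E hE (hV.preimage f)
    haveI := Props.QProj.projective_sections E hE (hV.preimage f)
    let e : Γ(E, f ⁻¹ᵁ V) ≃ₗ[Γ(Y, V)] Γ(P, V) :=
      { toFun := fun x => (x : Γ(P, V))
        invFun := fun x => (x : Γ(E, f ⁻¹ᵁ V))
        map_add' := fun _ _ => rfl
        map_smul' := fun _ _ => rfl
        left_inv := fun _ => rfl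
        right_inv := fun _ => rfl }
    haveI : Module.FinitePresentation Γ(Y, V) Γ(E, f ⁻¹ᵁ V) :=
      Module.FinitePresentation.trans (R := Γ(Y, V)) Γ(E, f ⁻¹ᵁ V) Γ(X, f ⁻¹ᵁ V)
    haveI : Module.Projective Γ(Y, V) Γ(E, f ⁻¹ᵁ V) :=
      projective_trans (A := Γ(Y, V)) (B := Γ(X, f ⁻¹ᵁ V)) Γ(E, f ⁻¹ᵁ V)
    exact ⟨Module.FinitePresentation.of_equiv e, Module.Projective.of_equiv' e⟩
  refine Props.QProj.isFinLocFree_of P (fun x => ?_) fun x => ?_
  · obtain ⟨V, hV, hxV, -⟩ := exists_isAffineOpen_mem_and_subset (U := ⊤) (Set.mem_univ x)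
    exact ⟨V, hV, hxV, (key V hV).1⟩
  · obtain ⟨V, hV, hxV, -⟩ := exists_isAffineOpen_mem_and_subset (U := ⊤) (Set.mem_univ x)
    haveI := (key V hV).1
    haveI := (key V hV).2
    exact Props.QProj.free_stalk_of_flat P hV hxV

/-- `𝓗om(A, N)` is of finite type for `A` finite locally free and `N` of finite type. -/
theorem isFiniteType_homSh (A N : Y.Modules) (hA : FlatMod.IsFinLocFree A) [N.IsQuasicoherent]
    [N.IsFiniteType] : (RefHull.homSh A N).IsFiniteType := by
  haveI : A.IsQuasicoherent := PerfTri.Betti.isQuasicoherent_of_isFinLocFree hA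
  haveI : (RefHull.homSh A N).IsQuasicoherent :=
    HomShQC.isQuasicoherent_homSh A N (Props.QProj.isFP A hA) ‹_›
  refine (QCoh.isFiniteType_iff _).2 fun V hV => ?_
  haveI := Props.QProj.finitePresentation_sections A hA hV
  haveI := Props.QProj.projective_sections A hA hV
  haveI : Module.Finite Γ(Y, V) Γ(N, V) := finite_sections_of_isFiniteType N hV
  obtain ⟨n, π, hπ⟩ := Module.Finite.exists_fin' Γ(Y, V) Γ(A, V)
  obtain ⟨s, hs⟩ := Module.projective_lifting_property π LinearMap.id hπ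
  haveI : Module.Finite Γ(Y, V) ((Fin n → Γ(Y, V)) →ₗ[Γ(Y, V)] Γ(N, V)) :=
    Module.Finite.linearMap _ _ _ _
  haveI : Module.Finite Γ(Y, V) (Γ(A, V) →ₗ[Γ(Y, V)] Γ(N, V)) :=
    Module.Finite.of_surjective (LinearMap.lcomp Γ(Y, V) Γ(N, V) s) fun g =>
      ⟨g.comp π, by
        refine LinearMap.ext fun a => ?_
        exact congrArg g (LinearMap.congr_fun hs a)⟩
  exact Module.Finite.equiv (HomShQC.secEquiv A N hV).symm

theorem hasResolutionProperty [IsFinite f] [Flat f] [LocallyOfFinitePresentation f] [Surjective f]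
    (hX : PerfAux.HasResolutionProperty X) : PerfAux.HasResolutionProperty Y := by
  intro N hN hNft
  have hA := isFinLocFree_pushO f
  haveI : (pushO f).IsQuasicoherent := PerfTri.Betti.isQuasicoherent_of_isFinLocFree hA
  haveI : N.IsQuasicoherent := hN
  haveI : N.IsFiniteType := hNft
  haveI : (homO f N).IsQuasicoherent :=
    HomShQC.isQuasicoherent_homSh (pushO f) N (Props.QProj.isFP (pushO f) hA) hN
  haveI : (homO f N).IsFiniteType := isFiniteType_homSh (pushO f) N hA
  obtain ⟨ev, hev⟩ := exists_ev f N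
  let M := (Scheme.Modules.pullback f).obj (homO f N)
  haveI : M.IsQuasicoherent := QCoh.isQuasicoherent_pullback f (homO f N)
  obtain ⟨E, π, hE, hπ⟩ := hX M ‹_› (FittLib.isFiniteType_pullback (F := homO f N) f)
  haveI : E.IsQuasicoherent := PerfTri.Betti.isQuasicoherent_of_isFinLocFree hE
  refine ⟨(Scheme.Modules.pushforward f).obj E, (Scheme.Modules.pushforward f).map π ≫ ev,
    isFinLocFree_push f E hE, epi_of_stalk fun y t => ?_⟩
  obtain ⟨U, hy, n, rfl⟩ := exists_germM_eq N y t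
  obtain ⟨V, hV, hyV, hVU⟩ := exists_isAffineOpen_mem_and_subset (x := y) (U := U) hy
  have hVU' : V ≤ U := hVU
  letI := (f.app V).hom.toAlgebra
  haveI : Module.Finite Γ(Y, V) Γ(X, f ⁻¹ᵁ V) := IsFinite.finite_app f V hV
  haveI : Module.Flat Γ(Y, V) Γ(X, f ⁻¹ᵁ V) := by
    have := f.flat_appLE hV (hV.preimage f) le_rfl
    rwa [← Scheme.Hom.app_eq_appLE] at this
  haveI : Algebra.FinitePresentation Γ(Y, V) Γ(X, f ⁻¹ᵁ V) := by
    have := LocallyOfFinitePresentation.finitePresentation_appLE (f := f) hV (hV.preimage f) le_rfl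
    rwa [← Scheme.Hom.app_eq_appLE] at this
  haveI : Module.FinitePresentation Γ(Y, V) Γ(X, f ⁻¹ᵁ V) := .of_finite_of_finitePresentation _ _
  haveI : Module.Projective Γ(Y, V) Γ(X, f ⁻¹ᵁ V) := Module.Flat.projective_of_finitePresentation
  obtain ⟨φ₁, hφ₁⟩ := exists_form_one Γ(Y, V) Γ(X, f ⁻¹ᵁ V) fun m hm htop => by
    have hy' : hV.fromSpec ⟨m, hm.isPrime⟩ ∈ V := hV.range_fromSpec.le ⟨_, rfl⟩
    obtain ⟨x, hx⟩ := f.surjective (hV.fromSpec ⟨m, hm.isPrime⟩)
    have hxW : x ∈ f ⁻¹ᵁ V := by show f x ∈ V; rw [hx]; exact hy'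
    have hc := IsAffineOpen.comap_primeIdealOf_appLE (f := f) (x := x) V hV (f ⁻¹ᵁ V) (hV.preimage f) le_rfl hxW
    have he : (hV.primeIdealOf ⟨f x, hxW⟩).asIdeal = m := by
      refine congrArg PrimeSpectrum.asIdeal (hV.fromSpec.isOpenEmbedding.injective (?_ : hV.fromSpec _ = hV.fromSpec ⟨m, hm.isPrime⟩))
      rw [hV.fromSpec_primeIdealOf]
      exact hx
    refine ((hV.preimage f).primeIdealOf ⟨x, hxW⟩).2.ne_top (top_le_iff.1 (htop.symm.le.trans ?_))
    rw [Ideal.map_le_iff_le_comap]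
    intro r hr
    rw [← he, ← hc] at hr
    rw [Ideal.mem_comap, RingHom.algebraMap_toAlgebra, Scheme.Hom.app_eq_appLE]
    exact hr
  let φ₀ : Γ(pushO f, V) →ₗ[Γ(Y, V)] Γ(N, V) :=
    { toFun := fun b => φ₁ (show Γ(X, f ⁻¹ᵁ V) from b) • res N hVU' n
      map_add' := fun a b => by
        show φ₁ ((show Γ(X, f ⁻¹ᵁ V) from a) + (show Γ(X, f ⁻¹ᵁ V) from b)) • _ = _
        rw [map_add, add_smul]
      map_smul' := fun r b => by
        show φ₁ (r • (show Γ(X, f ⁻¹ᵁ V) from b)) • _ = r • (φ₁ (show Γ(X, f ⁻¹ᵁ V) from b) • _)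
        rw [map_smul, smul_eq_mul, mul_smul] }
  obtain ⟨φ, hφ⟩ := (HomShQC.secEquiv (pushO f) N hV).surjective φ₀
  have hz : ev.app V (LimTop.unitSec f (homO f N) (le_rfl : f ⁻¹ᵁ V ≤ f ⁻¹ᵁ V) φ) = res N hVU' n := by
    have h1 := hev ⟨V, hV⟩ 1 φ
    rw [one_smul] at h1
    rw [h1, show HomShQC.sec (pushO f) N φ = φ₀ from hφ]
    exact (congrArg (· • res N hVU' n) hφ₁).trans (one_smul _ _)
  obtain ⟨e, he⟩ := QCoh.app_surjective_of_epi π (hV.preimage f)
    (LimTop.unitSec f (homO f N) (le_rfl : f ⁻¹ᵁ V ≤ f ⁻¹ᵁ V) φ)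
  refine ⟨germM ((Scheme.Modules.pushforward f).obj E) V y hyV e, ?_⟩
  refine (stalkLin_germ ((Scheme.Modules.pushforward f).map π ≫ ev) V y hyV e).trans ?_
  show germM N V y hyV (ev.app V (π.app (f ⁻¹ᵁ V) e)) = _
  rw [he, hz, ExtFilt.Stalkwise.germM_res']

end Groth.Agent.ResPropDesc
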